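import Groth.Agent.Lib.TrivMod.Et
import Groth.Agent.Lib.EtColim.SmallSite
import Groth.Prelude.Def_EtCech
import Mathlib.CategoryTheory.Limits.Shapes.ConcreteCategory
import Mathlib.AlgebraicGeometry.Limits

/-!
# The Čech complex of a finite family and of its disjoint union
-/

set_option autoImplicit false
set_option backward.isDefEq.respectTransparency false
set_option backward.isDefEq.respectTransparency.types false

universe u

open CategoryTheory CategoryTheory.Limits AlgebraicGeometry Opposite
open GrothLib.EtSite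

noncomputable section

namespace GrothLib.CechSum18

variable {X : Scheme.{u}}

section

variable {U : X.Etale} {ι : Type (u + 1)} [Finite ι] {Uf : ι → Over U} {V : Over U}
  (incl : ∀ i, Uf i ⟶ V)

/-- The data of a disjoint union. -/
structure IsSum : Prop where
  openImm : ∀ i, IsOpenImmersion (incl i).left.left
  cover : ∀ z : V.left.left, ∃ i, z ∈ Set.range (incl i).left.left.base
  disj : ∀ i j (a : (Uf i).left.left) (b : (Uf j).left.left),
    (incl i).left.left.base a = (incl j).left.left.base b → i = j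

theorem isSum_of_isColimit (hV : IsColimit (Cofan.mk V.left.left fun i => (incl i).left.left)) :
    IsSum incl := by
  let W : ι → Scheme.{u} := fun i => (Uf i).left.left
  let e := (colimit.isColimit (Discrete.functor W)).coconePointUniqueUpToIso hV
  have he : ∀ i, Sigma.ι W i ≫ e.hom = (incl i).left.left := fun i =>
    (colimit.isColimit (Discrete.functor W)).comp_coconePointUniqueUpToIso_hom hV ⟨i⟩
  refine ⟨fun i => ?_, fun z => ?_, fun i j a b hab => ?_⟩
  · rw [← he i]
    infer_instance
  · obtain ⟨i, w, hw⟩ := (sigmaOpenCover W).exists_eq (e.inv.base z)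
    refine ⟨i, w, ?_⟩
    rw [← he i, Scheme.Hom.comp_apply]
    change e.hom.base ((sigmaOpenCover W).f i w) = z
    rw [hw, ← Scheme.Hom.comp_apply, e.inv_hom_id]
    rfl
  · rw [← he i, ← he j, Scheme.Hom.comp_apply, Scheme.Hom.comp_apply] at hab
    have h := (Scheme.homeoOfIso e).injective hab
    exact congrArg Sigma.fst ((sigmaι_eq_iff W i j a b).1 h)

variable [HasFiniteProducts (Over U)] {α : Type} [Finite α]

/-- The map of products. -/
abbrev prodMap (x : α → ι) : (∏ᶜ fun a => Uf (x a)) ⟶ ∏ᶜ fun _ : α => V :=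
  Limits.Pi.map fun a => incl (x a)

/-- The restriction to the summands is bijective. -/
theorem bijective_restrict (h : IsSum incl) (F : EtCoh.Ab X) :
    Function.Bijective (fun (t : F.obj.obj (op (∏ᶜ fun _ : α => V).left)) (x : α → ι) =>
      F.obj.map (prodMap incl x).left.op t) := by
  let W : X.Etale := (∏ᶜ fun _ : α => V).left
  let p : ∀ x : α → ι, (∏ᶜ fun a => Uf (x a)).left ⟶ W := fun x => (prodMap incl x).left
  -- neighbourhoods factoring through a summand
  have hloc : ∀ z : W.left, ∃ (x : α → ι) (W' : X.Etale) (g : W' ⟶ W)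
      (l : W' ⟶ (∏ᶜ fun a => Uf (x a)).left) (w : W'.left), l ≫ p x = g ∧ g.left w = z := fun z => by
    let π : ∀ a : α, W ⟶ V.left := fun a => (Pi.π (fun _ : α => V) a).left
    choose x hx using fun a => h.cover ((π a).left.base z)
    let O : W.left.Opens := ⟨⋂ a, (π a).left.base ⁻¹' Set.range (incl (x a)).left.left.base,
      isOpen_iInter_of_finite fun a => by
        haveI := h.openImm (x a)
        exact (incl (x a)).left.left.isOpenEmbedding.isOpen_range.preimage (π a).left.continuous⟩
    have hz : z ∈ O := Set.mem_iInter.2 hx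
    let W' : X.Etale := opensObj W O
    let g : W' ⟶ W := opensHom W O
    have hl : ∀ a, ∃ k : W' ⟶ (Uf (x a)).left, k ≫ (incl (x a)).left = g ≫ π a := fun a => by
      haveI := h.openImm (x a)
      have hr : Set.range (g ≫ π a).left.base ⊆ Set.range (incl (x a)).left.left.base := by
        rintro _ ⟨w, rfl⟩
        exact Set.mem_iInter.1 w.2 a
      let k := IsOpenImmersion.lift (incl (x a)).left.left (g ≫ π a).left hr
      have hk : k ≫ (incl (x a)).left.left = (g ≫ π a).left := IsOpenImmersion.lift_fac _ _ _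
      refine ⟨MorphismProperty.Over.homMk k ?_ trivial, MorphismProperty.Over.Hom.ext hk⟩
      rw [← MorphismProperty.Over.w (incl (x a)).left, ← Category.assoc, hk]
      exact MorphismProperty.Over.w (g ≫ π a)
    choose k hk using hl
    let G : Over U := Over.mk (g ≫ (∏ᶜ fun _ : α => V).hom)
    let K : ∀ a, G ⟶ Uf (x a) := fun a => Over.homMk (k a) (by
      show k a ≫ (Uf (x a)).hom = g ≫ (∏ᶜ fun _ : α => V).hom
      rw [← Over.w (incl (x a)), ← Category.assoc, hk, Category.assoc, Over.w (Pi.π (fun _ : α => V) a)])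
    let gG : G ⟶ ∏ᶜ fun _ : α => V := Over.homMk g rfl
    refine ⟨x, W', g, (Pi.lift K).left, ⟨z, hz⟩, ?_, rfl⟩
    have e : Pi.lift K ≫ prodMap incl x = gG := Pi.hom_ext _ _ fun a => by
      rw [Category.assoc, Pi.map_π, Pi.lift_π_assoc]
      exact Over.OverMorphism.ext (hk a)
    exact congrArg CommaMorphism.left e
  -- two lifts to summands are locally equal
  have hsep : ∀ (x y : α → ι) (Z : X.Etale) (gx : Z ⟶ (∏ᶜ fun a => Uf (x a)).left)
      (gy : Z ⟶ (∏ᶜ fun a => Uf (y a)).left), gx ≫ p x = gy ≫ p y →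
      IsEmpty Z.left ∨ ∃ e : x = y, gx ≫ eqToHom (by rw [e]) = gy := fun x y Z gx gy hxy => by
    rcases isEmpty_or_nonempty Z.left with hZ | ⟨⟨w⟩⟩
    · exact Or.inl hZ
    have hc : ∀ a, gx ≫ (Pi.π (fun a => Uf (x a)) a).left ≫ (incl (x a)).left =
        gy ≫ (Pi.π (fun a => Uf (y a)) a).left ≫ (incl (y a)).left := fun a => by
      have := congrArg (fun t => t ≫ (Pi.π (fun _ : α => V) a).left) hxy
      simp only [Category.assoc, p, ← Over.comp_left, Pi.map_π] at this
      simpa only [Over.comp_left] using this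
    obtain rfl : x = y := funext fun a => h.disj _ _ _ _
      (congrArg (fun t : Z ⟶ V.left => t.left.base w) (hc a))
    refine Or.inr ⟨rfl, ?_⟩
    rw [eqToHom_refl, Category.comp_id]
    let Zo : Over U := Over.mk (gx ≫ (∏ᶜ fun a => Uf (x a)).hom)
    have hw : gy ≫ (∏ᶜ fun a => Uf (x a)).hom = gx ≫ (∏ᶜ fun a => Uf (x a)).hom := by
      rw [← Over.w (prodMap incl x), ← Category.assoc, ← Category.assoc]
      exact congrArg (· ≫ _) hxy.symm
    let ax : Zo ⟶ ∏ᶜ fun a => Uf (x a) := Over.homMk gx rfl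
    let ay : Zo ⟶ ∏ᶜ fun a => Uf (x a) := Over.homMk gy hw
    have e : ax = ay := Pi.hom_ext _ _ fun a => Over.OverMorphism.ext (by
      show gx ≫ (Pi.π (fun a => Uf (x a)) a).left = gy ≫ (Pi.π (fun a => Uf (x a)) a).left
      haveI := h.openImm (x a)
      refine MorphismProperty.Over.Hom.ext ((cancel_mono (incl (x a)).left.left).1 ?_)
      exact congrArg (fun t : Z ⟶ V.left => t.left) ((Category.assoc _ _ _).trans ((hc a).trans (Category.assoc _ _ _).symm)))
    exact congrArg CommaMorphism.left e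
  have hS : Sieve.ofArrows (fun x : α → ι => (∏ᶜ fun a => Uf (x a)).left) p ∈ X.smallEtaleTopology W :=
    TrivEt.mem_of_forall _ fun z => by
      obtain ⟨x, W', g, l, w, hl, hw⟩ := hloc z
      exact ⟨W', g, w, (Sieve.mem_ofArrows_iff _ _ g).2 ⟨x, l, hl.symm⟩, hw⟩
  have hF := (isSheaf_iff_isSheaf_of_type X.smallEtaleTopology _).1
    ((Presheaf.isSheaf_iff_isSheaf_comp X.smallEtaleTopology F.obj (forget AddCommGrpCat.{u + 1})).1 F.property)
  refine ⟨fun s t hst => ?_, fun s => ?_⟩
  · refine (hF _ hS).isSeparatedFor.ext fun Z f hf => ?_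
    obtain ⟨x, b, rfl⟩ := (Sieve.mem_ofArrows_iff _ _ f).1 hf
    change (F.obj.map (b ≫ p x).op).hom s = (F.obj.map (b ≫ p x).op).hom t
    rw [op_comp, Functor.map_comp]
    exact congrArg (F.obj.map b.op).hom (congrFun hst x)
  · obtain ⟨t, ht, -⟩ := (Presieve.isSheafFor_arrows_iff _ _).1
      ((Presieve.isSheafFor_iff_generate _).2 (hF _ hS)) s fun x y Z gx gy hxy => by
      rcases hsep x y Z gx gy hxy with hZ | ⟨rfl, e⟩
      · refine (hF ⊥ (TrivEt.mem_of_forall _ fun z => (hZ.false z).elim)).isSeparatedFor.ext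
          fun _ _ hg => hg.elim
      · rw [eqToHom_refl, Category.comp_id] at e
        rw [e]
    exact ⟨t, funext ht⟩

end

theorem pi_bijective {κ : Type (u + 1)} (M : κ → AddCommGrpCat.{u + 1}) :
    Function.Bijective (fun (y : (∏ᶜ M : AddCommGrpCat.{u + 1})) k => Pi.π M k y) := by
  convert (Concrete.productEquiv M).bijective using 1
  ext y k
  exact (Concrete.productEquiv_apply_apply M y k).symm

/-- The Čech complexes of a finite family and of its disjoint union are isomorphic. -/
theorem nonempty_iso (F : EtCoh.Ab X) (U : X.Etale) [HasFiniteProducts (Over U)] {ι : Type (u + 1)}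
    [Finite ι] (Uf : ι → Over U) (V : Over U) (incl : ∀ i, Uf i ⟶ V)
    (hV : IsColimit (Cofan.mk V.left.left fun i => (incl i).left.left)) :
    Nonempty (EtCech.cechComplex Uf F.obj ≅ EtCech.cechComplex (fun _ : PUnit.{u + 2} => V) F.obj) := by
  have h := isSum_of_isColimit incl hV
  let P : (Over U)ᵒᵖ ⥤ AddCommGrpCat.{u + 1} := (Over.forget U).op ⋙ F.obj
  let A : FormalCoproduct.{u + 1} (Over U) := FormalCoproduct.mk ι Uf
  let B : FormalCoproduct.{u + 1} (Over U) := FormalCoproduct.mk PUnit.{u + 2} fun _ => V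
  let f : A ⟶ B := { f := fun _ => PUnit.unit, φ := incl }
  let η := Functor.whiskerRight (NatTrans.rightOp (FormalCoproduct.cechFunctor.map f))
    ((FormalCoproduct.evalOp.{u + 1} (Over U) AddCommGrpCat.{u + 1}).obj P)
  haveI : ∀ n, IsIso (η.app n) := fun n => by
    let α := ToType n
    rw [ConcreteCategory.isIso_iff_bijective]
    let M : (α → PUnit.{u + 2}) → AddCommGrpCat.{u + 1} := fun z => P.obj (op (∏ᶜ fun a : α => (fun _ : PUnit.{u + 2} => V) (z a)))
    let N : (α → ι) → AddCommGrpCat.{u + 1} := fun x => P.obj (op (∏ᶜ fun a : α => Uf (x a)))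
    have h1 : Function.Bijective (fun y : (∏ᶜ M : AddCommGrpCat.{u + 1}) => Pi.π M (fun _ => PUnit.unit) y) := by
      have hb := pi_bijective M
      refine ⟨fun y y' e => hb.1 (funext fun z => ?_), fun s => ?_⟩
      · obtain rfl : z = fun _ => PUnit.unit := funext fun _ => rfl
        exact e
      · obtain ⟨y, hy⟩ := hb.2 (fun z => s)
        exact ⟨y, congrFun hy _⟩
    have h2 := (bijective_restrict (α := α) incl h F).comp h1
    refine (Function.Bijective.of_comp_iff' (pi_bijective N) _).1 ?_
    let φ : (∏ᶜ M : AddCommGrpCat.{u + 1}) ⟶ ∏ᶜ N :=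
      Pi.lift fun x => Pi.π M (fun _ => PUnit.unit) ≫ P.map (prodMap incl x).op
    show Function.Bijective ((fun (y : (∏ᶜ N : AddCommGrpCat.{u + 1})) k => Pi.π N k y) ∘ ⇑(ConcreteCategory.hom φ))
    refine (funext fun y => funext fun x => ?_ :
      ((fun (y : (∏ᶜ N : AddCommGrpCat.{u + 1})) k => Pi.π N k y) ∘ ⇑(ConcreteCategory.hom φ)) = _) ▸ h2
    exact ConcreteCategory.congr_hom (Pi.lift_π (fun x => Pi.π M (fun _ => PUnit.unit) ≫
        P.map (prodMap incl x).op) x) y
  haveI : IsIso η := NatIso.isIso_of_isIso_app η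
  exact ⟨((AlgebraicTopology.alternatingCofaceMapComplex AddCommGrpCat.{u + 1}).mapIso (asIso η)).symm⟩

end GrothLib.CechSum18
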